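import Groth.Agent.Lib.GenFinite.Degree
import Groth.Agent.H20.RegularFlat
import Groth.Agent.Lib.Depth.CM
import Groth.Agent.Lib.Regular.Quotient
import Mathlib.AlgebraicGeometry.ZariskisMainTheorem
import Mathlib.RingTheory.LocalRing.Module

/-!
# Finite fibres of morphisms of regular varieties of the same dimension
-/

set_option backward.isDefEq.respectTransparency.types false
set_option linter.style.haveILetI false

universe u

open CategoryTheory CategoryTheory.Limits AlgebraicGeometry TopologicalSpace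
open scoped TensorProduct

namespace Groth.Agent.Lib.GenFinite.Regular

/-- The rank of a fibre of a flat domain is at most the generic degree. -/
theorem finrank_tensor_le {A B κ : Type u} [CommRing A] [IsDomain A] [CommRing B] [IsDomain B]
    [Algebra A B] [Module.Flat A B] (K L : Type u) [Field K] [Field L] [Algebra A K] [IsFractionRing A K]
    [Algebra B L] [IsFractionRing B L] [Algebra A L] [Algebra K L] [IsScalarTower A B L]
    [IsScalarTower A K L] [Module.Finite K L] [Field κ] [Algebra A κ] :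
    Module.finrank κ (κ ⊗[A] B) ≤ Module.finrank K L := by
  classical
  by_cases hfin : Module.Finite κ (κ ⊗[A] B)
  swap
  · rw [Module.finrank_of_infinite_dimensional hfin]; exact Nat.zero_le _
  let ι' := B
  have hspan : Submodule.span κ (Set.range fun b : B => (1 : κ) ⊗ₜ[A] b) = ⊤ := by
    refine eq_top_iff.mpr fun z _ => ?_
    induction z using TensorProduct.induction_on with
    | zero => exact zero_mem _
    | tmul c b =>
      rw [show c ⊗ₜ[A] b = c • ((1 : κ) ⊗ₜ[A] b) by simp [TensorProduct.smul_tmul']]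
      exact Submodule.smul_mem _ _ (Submodule.subset_span ⟨b, rfl⟩)
    | add x y hx hy => exact add_mem (hx trivial) (hy trivial)
  obtain ⟨σ, a, ha, hspan', hli⟩ := exists_linearIndependent' κ (fun b : B => (1 : κ) ⊗ₜ[A] b)
  rw [hspan] at hspan'
  let : Fintype σ := @Fintype.ofFinite _ hli.finite
  have hcard : Module.finrank κ (κ ⊗[A] B) = Fintype.card σ :=
    Module.finrank_eq_card_basis (Module.Basis.mk hli hspan'.ge)
  let p : Ideal A := RingHom.ker (algebraMap A κ)
  haveI : p.IsPrime := RingHom.ker_isPrime _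
  let ψ : Localization.AtPrime p →+* κ := IsLocalization.lift (M := p.primeCompl)
    (g := algebraMap A κ) fun y => isUnit_iff_ne_zero.mpr fun h => y.2 h
  haveI : IsLocalHom ψ := by
    refine ⟨fun a ha => ?_⟩
    obtain ⟨x, y, rfl⟩ := IsLocalization.exists_mk'_eq p.primeCompl a
    refine (IsLocalization.AtPrime.isUnit_mk'_iff (Localization.AtPrime p) p x y).mpr fun hx => ha.ne_zero ?_
    rw [IsLocalization.lift_mk', show algebraMap A κ x = 0 from hx, zero_mul]
  let k' := IsLocalRing.ResidueField (Localization.AtPrime p)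
  letI : Algebra k' κ := (IsLocalRing.ResidueField.lift ψ).toAlgebra
  letI : Algebra (Localization.AtPrime p) κ := ψ.toAlgebra
  haveI : IsScalarTower A (Localization.AtPrime p) κ :=
    IsScalarTower.of_algebraMap_eq fun x => (IsLocalization.lift_eq _ x).symm
  haveI : IsScalarTower (Localization.AtPrime p) k' κ := IsScalarTower.of_algebraMap_eq' rfl
  let g : k' ⊗[Localization.AtPrime p] (Localization.AtPrime p ⊗[A] B) →ₗ[k'] κ ⊗[A] B :=
    ((TensorProduct.mk A κ B 1).liftBaseChange (Localization.AtPrime p)).liftBaseChange k'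
  have h1 : LinearIndependent (Localization.AtPrime p)
      (fun i => (1 : Localization.AtPrime p) ⊗ₜ[A] a i) := by
    refine Module.IsLocalRing.linearIndependent_of_flat _ (LinearIndependent.of_comp g ?_)
    have : (g ∘ (TensorProduct.mk (Localization.AtPrime p) k' (Localization.AtPrime p ⊗[A] B) 1 ∘
        fun i => (1 : Localization.AtPrime p) ⊗ₜ[A] a i)) = (fun b : B => (1 : κ) ⊗ₜ[A] b) ∘ a := by
      funext i
      simp [g]
    rw [this]
    exact hli.restrict_scalars' k'
  have h2 : LinearIndependent A a := by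
    have hinj : Function.Injective (algebraMap A (Localization.AtPrime p)) :=
      IsLocalization.injective _ p.primeCompl_le_nonZeroDivisors
    have : FaithfulSMul A (Localization.AtPrime p) := (faithfulSMul_iff_algebraMap_injective _ _).mpr hinj
    exact LinearIndependent.of_comp (TensorProduct.mk A (Localization.AtPrime p) B 1)
      (h1.restrict_scalars' A)
  have h3 : LinearIndependent K (fun i => algebraMap B L (a i)) :=
    (LinearIndependent.iff_fractionRing A K).mp
      (h2.map_injOn (IsScalarTower.toAlgHom A B L).toLinearMap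
        (IsFractionRing.injective B L).injOn)
  rw [hcard]
  exact h3.fintype_card_le_finrank

variable {X Y : Scheme.{u}} (f : X ⟶ Y)

theorem residueFieldMap_finite (x : X) (hx : f.QuasiFiniteAt x) : (f.residueFieldMap x).hom.Finite := by
  have h : ((f.residueFieldMap x).hom.comp (Y.residue (f x)).hom).QuasiFinite := by
    rw [← CommRingCat.hom_comp, Scheme.residue_residueFieldMap, CommRingCat.hom_comp]
    exact (RingHom.QuasiFinite.of_finite (RingHom.Finite.of_surjective _ (X.residue_surjective x))).comp hx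
  have h' := RingHom.QuasiFinite.of_comp h
  algebraize [(f.residueFieldMap x).hom]
  exact Algebra.QuasiFinite.iff_of_isArtinianRing.mp h'

variable (k : Type u) [Field k] (p : X ⟶ Spec (CommRingCat.of k)) (q : Y ⟶ Spec (CommRingCat.of k))

theorem fdelta_genericPoint_eq [LocallyOfFiniteType p] [LocallyOfFiniteType q] [IrreducibleSpace X]
    [IrreducibleSpace Y] (hdim : topologicalKrullDim X = topologicalKrullDim Y) :
    Cyc.FieldDim.fdelta p (genericPoint X) = Cyc.FieldDim.fdelta q (genericPoint Y) := by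
  rw [Basic.topologicalKrullDim_eq_fdelta p, Basic.topologicalKrullDim_eq_fdelta q] at hdim
  have hd : (Cyc.FieldDim.fdelta p (genericPoint X)).toNat = (Cyc.FieldDim.fdelta q (genericPoint Y)).toNat := by
    exact_mod_cast hdim
  have h1 := Cyc.FieldDim.fdelta_nonneg p (genericPoint X)
  have h2 := Cyc.FieldDim.fdelta_nonneg q (genericPoint Y)
  omega

theorem isCohenMacaulayLocalRing (A : Type u) [CommRing A] [IsRegularLocalRing A] :
    LocCoh.IsCohenMacaulayLocalRing A := by
  obtain ⟨rs, hrs, hlen⟩ : ∃ rs : List A, Ideal.ofList rs = IsLocalRing.maximalIdeal A ∧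
      rs.length = (IsLocalRing.maximalIdeal A).spanFinrank := by
    have hfg : (IsLocalRing.maximalIdeal A).FG := IsNoetherian.noetherian _
    refine ⟨(Submodule.FG.finite_generators hfg).toFinset.toList, ?_, ?_⟩
    · simp only [Ideal.ofList, Finset.mem_toList, Set.Finite.mem_toFinset, Set.ofPred_mem_eq]
      exact Submodule.span_generators _
    · rw [Finset.length_toList,
        ← Set.ncard_eq_toFinset_card _ (Submodule.FG.finite_generators hfg),
        Submodule.FG.generators_ncard hfg]
  refine Groth.Agent.Lib.Depth.CM.isCohenMacaulayLocalRing_of_isRegular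
    (Groth.Agent.Lib.Regular.Quotient.isRegular_of_span_eq_maximalIdeal rs hrs hlen) ?_
  rw [hlen, IsRegularLocalRing.spanFinrank_maximalIdeal]

/-- Miracle flatness at a quasi-finite point. -/
theorem flat_stalkMap [LocallyOfFiniteType p] [LocallyOfFiniteType q] [IrreducibleSpace X]
    [IrreducibleSpace Y] (hf : f ≫ q = p) (hdim : topologicalKrullDim X = topologicalKrullDim Y)
    (x : X) (hx : f.QuasiFiniteAt x) (hX : IsRegularLocalRing (X.presheaf.stalk x))
    (hY : IsRegularLocalRing (Y.presheaf.stalk (f x))) : (f.stalkMap x).hom.Flat := by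
  have hdimeq : ringKrullDim (X.presheaf.stalk x) = ringKrullDim (Y.presheaf.stalk (f x)) := by
    obtain ⟨e, he, hxe⟩ := Basic.fdelta_eq p q f hf x
    rw [Cyc.Residue.trdegAt_eq_zero_of_finite x (residueFieldMap_finite f x hx)] at he
    have he0 : e = 0 := by exact_mod_cast he.symm
    rw [Cyc.DimFun.ringKrullDim_stalk (Cyc.FieldDim.isDimFun_fdelta p),
      Cyc.DimFun.ringKrullDim_stalk (Cyc.FieldDim.isDimFun_fdelta q), hxe,
      fdelta_genericPoint_eq k p q hdim, he0, Nat.cast_zero, add_zero]
  let R := Y.presheaf.stalk (f x)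
  let S := X.presheaf.stalk x
  letI : Algebra R S := (f.stalkMap x).hom.toAlgebra
  haveI : IsLocalHom (algebraMap R S) := inferInstanceAs (IsLocalHom (f.stalkMap x).hom)
  haveI : Algebra.QuasiFinite R S := hx
  haveI := isCohenMacaulayLocalRing S
  refine Groth.Agent.H20.RegularFlat.flat_of_supportDim_eq R S S
    Groth.Agent.Lib.Depth.CM.isCohenMacaulayModule_self ?_
  rw [Module.supportDim_self_eq_ringKrullDim, hdimeq,
    Module.supportDim_eq_of_equiv (Submodule.quotEquivOfEq _
      ((IsLocalRing.maximalIdeal R).map (algebraMap R S)) (by simp)),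
    Module.supportDim_quotient_eq_ringKrullDim]
  refine le_trans (add_le_add (b := (0 : WithBot ℕ∞)) ?_ le_rfl) (zero_add _).le
  let I := (IsLocalRing.maximalIdeal R).map (algebraMap R S)
  haveI : Algebra.QuasiFinite (R ⧸ IsLocalRing.maximalIdeal R) (S ⧸ I) :=
    Algebra.QuasiFinite.of_restrictScalars R _ _
  letI := Ideal.Quotient.field (IsLocalRing.maximalIdeal R)
  haveI : Module.Finite (R ⧸ IsLocalRing.maximalIdeal R) (S ⧸ I) := Module.Finite.of_quasiFinite
  haveI : IsArtinianRing (S ⧸ I) := IsArtinianRing.of_finite (R ⧸ IsLocalRing.maximalIdeal R) _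
  exact (Ring.krullDimLE_iff (n := 0)).mp inferInstance

/-- An affine open of quasi-finite points over an affine open containing a given finite set. -/
theorem exists_affine [LocallyOfFiniteType f] [IsSeparated f] [QuasiCompact f] {V : Y.Opens}
    (hV : IsAffineOpen V) (s : Set X) (hs : s.Finite) (hsV : ∀ x ∈ s, f x ∈ V)
    (hq : ∀ x ∈ s, f.QuasiFiniteAt x) :
    ∃ W : X.Opens, IsAffineOpen W ∧ s ⊆ W ∧ W ≤ f ⁻¹ᵁ V ∧ ∀ x ∈ W, f.QuasiFiniteAt x := by
  classical
  let g := f ∣_ V
  haveI : IsSeparated g := IsZariskiLocalAtTarget.restrict ‹IsSeparated f› V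
  haveI : QuasiCompact g := IsZariskiLocalAtTarget.restrict ‹QuasiCompact f› V
  haveI : LocallyOfFiniteType g := IsZariskiLocalAtTarget.restrict ‹LocallyOfFiniteType f› V
  haveI : IsAffine V := hV
  haveI : IsAffine g.normalization := isAffine_of_isAffineHom g.fromNormalization
  let j := g.quasiFiniteLocus.ι ≫ g.toNormalization
  let i := g.quasiFiniteLocus.ι ≫ (f ⁻¹ᵁ V).ι
  have hqi : ∀ z, f.QuasiFiniteAt (i z) := by
    intro z
    have hz : g.QuasiFiniteAt z.1 := z.2
    have h1 : (g ≫ V.ι).QuasiFiniteAt z.1 := Scheme.Hom.quasiFiniteAt_comp_iff.mpr hz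
    rw [morphismRestrict_ι] at h1
    exact (Scheme.Hom.quasiFiniteAt_comp_iff_of_isOpenImmersion (f := (f ⁻¹ᵁ V).ι)).mp h1
  have hsr : s ⊆ Set.range i := by
    intro x hx
    have hxV : x ∈ f ⁻¹ᵁ V := hsV x hx
    refine ⟨⟨⟨x, hxV⟩, ?_⟩, rfl⟩
    have h1 : ((f ⁻¹ᵁ V).ι ≫ f).QuasiFiniteAt ⟨x, hxV⟩ :=
      Scheme.Hom.quasiFiniteAt_comp_iff_of_isOpenImmersion.mpr (hq x hx)
    rw [← morphismRestrict_ι] at h1
    exact Scheme.Hom.quasiFiniteAt_comp_iff.mp h1
  let S : Set g.normalization := j '' (i ⁻¹' s)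
  have hS : S.Finite := (hs.preimage i.isEmbedding.injective.injOn).image _
  let N := g.normalization
  have hN : IsAffineOpen (⊤ : N.Opens) := isAffineOpen_top N
  let T : Set (Spec Γ(N, ⊤)) := hN.fromSpec ⁻¹' (j.opensRange : Set N)ᶜ
  have hT : IsClosed T := j.opensRange.isOpen.isClosed_compl.preimage hN.fromSpec.continuous
  obtain ⟨I, hI⟩ := (PrimeSpectrum.isClosed_iff_zeroLocus_ideal T).mp hT
  obtain ⟨h, hhI, hh⟩ : ∃ h ∈ I, ∀ z ∈ S, h ∉ (hN.primeIdealOf ⟨z, trivial⟩).asIdeal := by
    have hne : ¬ (I : Set Γ(N, ⊤)) ⊆ ⋃ z ∈ S, ((hN.primeIdealOf ⟨z, trivial⟩).asIdeal : Set Γ(N, ⊤)) := by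
      intro hsub
      obtain hS0 | ⟨z₀, hz₀⟩ := S.eq_empty_or_nonempty
      · have := hsub I.zero_mem
        simp [hS0] at this
      obtain ⟨z, hz, hle⟩ := (Ideal.subset_union_prime_finite hS
        (f := fun z => (hN.primeIdealOf ⟨z, trivial⟩).asIdeal) z₀ z₀
        (fun w _ _ _ => (hN.primeIdealOf ⟨w, trivial⟩).isPrime)).mp hsub
      have hmem : hN.primeIdealOf ⟨z, trivial⟩ ∈ T := by
        rw [hI]; exact hle
      obtain ⟨w, -, rfl⟩ := hz
      exact hmem ((hN.fromSpec_primeIdealOf ⟨j w, trivial⟩).symm ▸ ⟨w, rfl⟩)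
    obtain ⟨h, h1, h2⟩ := Set.not_subset.mp hne
    exact ⟨h, h1, fun z hz hc => h2 (Set.mem_biUnion hz hc)⟩
  have hD : N.basicOpen h ≤ j.opensRange := by
    intro z hz
    by_contra hc
    have hmem : hN.primeIdealOf ⟨z, trivial⟩ ∈ T := by
      show hN.fromSpec (hN.primeIdealOf ⟨z, trivial⟩) ∈ (j.opensRange : Set N)ᶜ
      exact (hN.fromSpec_primeIdealOf ⟨z, trivial⟩).symm ▸ hc
    rw [hI] at hmem
    have : hN.primeIdealOf ⟨z, trivial⟩ ∈ hN.fromSpec ⁻¹ᵁ N.basicOpen h :=
      show hN.fromSpec (hN.primeIdealOf ⟨z, trivial⟩) ∈ N.basicOpen h from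
        (hN.fromSpec_primeIdealOf ⟨z, trivial⟩).symm ▸ hz
    rw [hN.fromSpec_preimage_basicOpen] at this
    exact this (hmem hhI)
  have haff : IsAffineOpen (i ''ᵁ (j ⁻¹ᵁ N.basicOpen h)) :=
    (((hN.basicOpen h)).preimage_of_isOpenImmersion j hD).image_of_isOpenImmersion i
  refine ⟨_, haff, ?_, ?_, ?_⟩
  · intro x hx
    obtain ⟨z, rfl⟩ := hsr hx
    refine ⟨z, ?_, rfl⟩
    show j z ∈ N.basicOpen h
    have h0 : hN.primeIdealOf ⟨j z, trivial⟩ ∈ hN.fromSpec ⁻¹ᵁ N.basicOpen h := by
      rw [hN.fromSpec_preimage_basicOpen]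
      exact hh _ ⟨z, hx, rfl⟩
    exact (congrArg (· ∈ N.basicOpen h) (hN.fromSpec_primeIdealOf ⟨j z, trivial⟩)).mp h0
  · rintro _ ⟨z, -, rfl⟩
    exact z.1.2
  · rintro _ ⟨z, -, rfl⟩
    exact hqi z

theorem quasiFiniteAt_of_isFinite [LocallyOfFiniteType f] {y : Y}
    (hy : IsFinite (pullback.snd f (Y.fromSpecResidueField y))) :
    (f ⁻¹' {y}).Finite ∧ ∀ x, f x = y → f.QuasiFiniteAt x := by
  have hd : DiscreteTopology ↥(f.fiber y) := by
    haveI : IsFinite (f.fiberToSpecResidueField y) := hy
    rw [← isDiscrete_univ_iff]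
    convert (f.fiberToSpecResidueField y).isDiscrete_preimage_singleton (default : Spec (Y.residueField y))
    exact Set.ext fun z => iff_of_true trivial (Subsingleton.elim _ _)
  haveI : IsAffineHom (f.fiberToSpecResidueField y) := (hy : IsFinite (f.fiberToSpecResidueField y)).toIsAffineHom
  haveI : CompactSpace (f.fiber y) := QuasiCompact.compactSpace_of_compactSpace (f.fiberToSpecResidueField y)
  haveI : Finite (f.fiber y) := finite_of_compact_of_discrete
  refine ⟨Set.finite_coe_iff.mp (Finite.of_equiv _ (f.fiberHomeo y).toEquiv), fun x hx => ?_⟩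
  subst hx
  exact Scheme.Hom.quasiFiniteAt_iff_isOpen_singleton_asFiber.mpr (isOpen_discrete _)

theorem finrank_fibre_le [IsIntegral X] [IsIntegral Y] [LocallyOfFiniteType p] [QuasiCompact p]
    [LocallyOfFiniteType q] [QuasiCompact q] [IsDominant f] [IsSeparated f] (hf : f ≫ q = p)
    (hdim : topologicalKrullDim X = topologicalKrullDim Y)
    (hX : ∀ x : X, IsRegularLocalRing (X.presheaf.stalk x))
    (hY : ∀ y : Y, IsRegularLocalRing (Y.presheaf.stalk y)) (y : Y)
    (hy : IsFinite (pullback.snd f (Y.fromSpecResidueField y))) :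
    (letI := ((Scheme.ΓSpecIso (CommRingCat.of (Y.residueField y))).inv ≫
            (pullback.snd f (Y.fromSpecResidueField y)).appTop).hom.toAlgebra;
          Module.finrank (Y.residueField y) ↑(Γ(pullback f (Y.fromSpecResidueField y), ⊤))) ≤
      (letI := (f.residueFieldMap (genericPoint ↥X)).hom.toAlgebra;
          Module.finrank (Y.residueField (f (genericPoint ↥X))) (X.residueField (genericPoint ↥X))) := by
  have : LocallyOfFiniteType (f ≫ q) := hf ▸ inferInstance
  haveI : LocallyOfFiniteType f := locallyOfFiniteType_of_comp f q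
  haveI : IsLocallyNoetherian Y := LocallyOfFiniteType.isLocallyNoetherian q
  haveI : IsLocallyNoetherian X := LocallyOfFiniteType.isLocallyNoetherian p
  haveI : CompactSpace X := QuasiCompact.compactSpace_of_compactSpace p
  haveI : IsNoetherian X := {}
  haveI : QuasiCompact f := inferInstance
  obtain ⟨_, ⟨V, hV, rfl⟩, hyV, -⟩ :=
    Y.isBasis_affineOpens.exists_subset_of_mem_open (Set.mem_univ y) isOpen_univ
  change Y.Opens at V
  replace hV : IsAffineOpen V := hV
  have hξ := Degree.map_genericPoint f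
  have hηV : f (genericPoint X) ∈ V :=
    hξ ▸ ((genericPoint_spec Y).specializes trivial).mem_open V.isOpen hyV
  obtain ⟨hfin, hqf⟩ := quasiFiniteAt_of_isFinite f hy
  have hqξ : f.QuasiFiniteAt (genericPoint X) := by
    haveI : Subsingleton ↥(f.fiber (f (genericPoint X))) := by
      refine (f.fiberHomeo _).toEquiv.subsingleton_congr.mpr ⟨fun a b => Subtype.ext ?_⟩
      rw [(Basic.eq_genericPoint p q f hf hdim ((Set.mem_singleton_iff.mp a.2).trans hξ)).1,
        (Basic.eq_genericPoint p q f hf hdim ((Set.mem_singleton_iff.mp b.2).trans hξ)).1]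
    exact Scheme.Hom.quasiFiniteAt_iff_isOpen_singleton_asFiber.mpr (isOpen_discrete _)
  obtain ⟨W, hW, hsW, hWV, hWq⟩ := exists_affine f hV (insert (genericPoint X) (f ⁻¹' {y}))
    (hfin.insert _) (by rintro x (rfl | hx); exacts [hηV, (Set.mem_singleton_iff.mp hx).symm ▸ hyV])
    (by rintro x (rfl | hx); exacts [hqξ, hqf x hx])
  have hξW : genericPoint X ∈ W := hsW (Set.mem_insert _ _)
  let φ := f.appLE V W hWV
  have hφ : Spec.map φ ≫ hV.fromSpec = hW.fromSpec ≫ f :=
    IsAffineOpen.SpecMap_appLE_fromSpec f hV hW hWV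
  haveI hflat : Flat (Spec.map φ) := by
    refine Flat.of_stalkMap _ fun z => ?_
    have hmem : hW.fromSpec z ∈ W := by
      have : hW.fromSpec z ∈ Set.range hW.fromSpec := ⟨z, rfl⟩
      rwa [hW.range_fromSpec] at this
    have h1 : ((hW.fromSpec ≫ f).stalkMap z).hom.Flat := by
      rw [Scheme.Hom.stalkMap_comp]
      exact RingHom.Flat.comp (flat_stalkMap f k p q hf hdim _ (hWq _ hmem) (hX _) (hY _))
        (RingHom.Flat.of_bijective (ConcreteCategory.bijective_of_isIso (hW.fromSpec.stalkMap z)))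
    have h2 : ((Spec.map φ ≫ hV.fromSpec).stalkMap z).hom.Flat := by
      rw [Scheme.Hom.stalkMap_congr_hom _ _ hφ z]
      exact RingHom.Flat.comp (RingHom.Flat.of_bijective (ConcreteCategory.bijective_of_isIso _)) h1
    rw [Scheme.Hom.stalkMap_comp] at h2
    exact (RingHom.Flat.respectsIso.cancel_left_isIso (hV.fromSpec.stalkMap (Spec.map φ z)) ((Spec.map φ).stalkMap z)).mp h2
  haveI : Nonempty V := ⟨⟨_, hηV⟩⟩
  haveI : Nonempty W := ⟨⟨_, hξW⟩⟩
  letI : Algebra Γ(Y, V) Γ(X, W) := φ.hom.toAlgebra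
  haveI : Module.Flat Γ(Y, V) Γ(X, W) := Flat.SpecMap_iff.mp hflat
  let K := Y.residueField (f (genericPoint X))
  let L := X.residueField (genericPoint X)
  letI : Algebra K L := (f.residueFieldMap (genericPoint X)).hom.toAlgebra
  haveI : Module.Finite K L := Degree.residueFieldMap_finite k p q f hf hdim
  letI : Algebra Γ(Y, V) K := (Y.evaluation V (f (genericPoint X)) hηV).hom.toAlgebra
  haveI := Degree.isFractionRing_evaluation hV hξ hηV
  letI : Algebra Γ(X, W) L := (X.evaluation W (genericPoint X) hξW).hom.toAlgebra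
  haveI := Degree.isFractionRing_evaluation hW rfl hξW
  letI : Algebra Γ(Y, V) L := ((X.evaluation W (genericPoint X) hξW).hom.comp φ.hom).toAlgebra
  haveI : IsScalarTower Γ(Y, V) Γ(X, W) L := IsScalarTower.of_algebraMap_eq' rfl
  haveI : IsScalarTower Γ(Y, V) K L := IsScalarTower.of_algebraMap_eq' (by
    change (φ ≫ X.evaluation W (genericPoint X) hξW).hom =
      (Y.evaluation V (f (genericPoint X)) hηV ≫ f.residueFieldMap (genericPoint X)).hom
    congr 1
    rw [Scheme.evaluation_naturality]
    simp [φ, Scheme.Hom.appLE, Scheme.evaluation])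
  letI : Algebra Γ(Y, V) (Y.residueField y) := (Y.evaluation V y hyV).hom.toAlgebra
  let ι := Spec.map (CommRingCat.ofHom (algebraMap Γ(Y, V) (Y.residueField y)))
  have hι : ι ≫ hV.fromSpec = Y.fromSpecResidueField y := by
    rw [Scheme.fromSpecResidueField, ← hV.fromSpecStalk_eq_fromSpecStalk hyV, IsAffineOpen.fromSpecStalk,
      ← Spec.map_comp_assoc]
    rfl
  let P := pullback f (Y.fromSpecResidueField y)
  have hr : Set.range (pullback.fst f (Y.fromSpecResidueField y)) ⊆ Set.range hW.fromSpec := by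
    rw [hW.range_fromSpec]
    exact (f.range_fiberι y).le.trans ((Set.subset_insert _ _).trans hsW)
  let a : P ⟶ Spec Γ(X, W) := IsOpenImmersion.lift hW.fromSpec _ hr
  have ha : a ≫ hW.fromSpec = pullback.fst _ _ := IsOpenImmersion.lift_fac _ _ _
  have hpb : IsPullback a (pullback.snd f (Y.fromSpecResidueField y)) (Spec.map φ) ι := by
    refine IsPullback.of_isLimit' ⟨by rw [← cancel_mono hV.fromSpec, Category.assoc, hφ, Category.assoc,
      hι, ← Category.assoc, ha, pullback.condition]⟩
      (PullbackCone.IsLimit.mk _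
        (fun c => pullback.lift (c.fst ≫ hW.fromSpec) c.snd
          (by rw [Category.assoc, ← hφ, ← Category.assoc, c.condition, Category.assoc, hι]))
        (fun c => by rw [← cancel_mono hW.fromSpec, Category.assoc, ha, pullback.lift_fst])
        (fun c => pullback.lift_snd _ _ _)
        fun c m h1 h2 => pullback.hom_ext (by rw [pullback.lift_fst, ← ha, ← Category.assoc, h1])
          (by rw [pullback.lift_snd, h2]))
  let B := Γ(X, W)
  let e : P ≅ Spec (CommRingCat.of (Y.residueField y ⊗[Γ(Y, V)] B)) :=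
    hpb.flip.isoPullback ≪≫ pullbackSpecIso Γ(Y, V) (Y.residueField y) B
  let β := Spec.map (CommRingCat.ofHom (algebraMap (Y.residueField y) (Y.residueField y ⊗[Γ(Y, V)] B)))
  have he : e.hom ≫ β = pullback.snd f (Y.fromSpecResidueField y) := by
    simp only [e, β, Iso.trans_hom, Category.assoc]
    rw [pullbackSpecIso_hom_fst']
    exact hpb.flip.isoPullback_hom_fst
  haveI : IsFinite β := by
    rw [← MorphismProperty.cancel_left_of_respectsIso (@IsFinite : MorphismProperty Scheme.{u}) e.hom, he]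
    exact hy
  haveI : Module.Finite (Y.residueField y) (Y.residueField y ⊗[Γ(Y, V)] B) :=
    RingHom.finite_algebraMap.mp ((IsFinite.SpecMap_iff _).mp ‹IsFinite β›)
  haveI : IsFinite (pullback.snd f (Y.fromSpecResidueField y)) := hy
  haveI := FibreDeg.Basic.flat_of_field β
  rw [← he, Degree.finrank_fibre (K := Y.residueField y) (e.hom ≫ β) default]
  rw [Scheme.Hom.finrank_comp_left_of_isIso, Scheme.Hom.finrank_SpecMap_algebraMap,
    Module.rankAtStalk_eq_finrank_of_free]
  exact finrank_tensor_le K L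

end Groth.Agent.Lib.GenFinite.Regular
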