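import Groth.Agent.Lib.Cyc.LocalDim
import Groth.Agent.Lib.Cyc.DimFun

/-!
# Morphisms of varieties of the same dimension: the generic fibre
-/

universe u

open CategoryTheory AlgebraicGeometry TopologicalSpace

namespace Groth.Agent.Lib.GenFinite.Basic

open Groth.Agent.Lib.Cyc

variable {K : Type u} [Field K] {Z W : Scheme.{u}} (p : Z ⟶ Spec (CommRingCat.of K))
  (q : W ⟶ Spec (CommRingCat.of K)) (g : Z ⟶ W)

theorem topologicalKrullDim_eq_fdelta [LocallyOfFiniteType p] [IrreducibleSpace Z] :
    topologicalKrullDim Z = ((FieldDim.fdelta p (genericPoint Z)).toNat : WithBot ℕ∞) := by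
  rw [← FieldDim.topologicalKrullDim_closure p, genericPoint_closure]
  exact (IsHomeomorph.topologicalKrullDim_eq _ (Homeomorph.Set.univ Z).isHomeomorph).symm

theorem fdelta_eq (hg : g ≫ q = p) [LocallyOfFiniteType p] [LocallyOfFiniteType q] (z : Z) :
    ∃ e : ℕ, Residue.trdegAt g z = e ∧ FieldDim.fdelta p z = FieldDim.fdelta q (g z) + e := by
  have h := Residue.trdegAt_comp g q z
  rw [hg, FieldDim.trdegAt_eq_fdelta, FieldDim.trdegAt_eq_fdelta] at h
  obtain ⟨e, he⟩ := Cardinal.lt_aleph0.mp
    (lt_of_le_of_lt (h ▸ le_add_self : Residue.trdegAt g z ≤ _) (Cardinal.natCast_lt_aleph0))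
  rw [he] at h
  refine ⟨e, he, ?_⟩
  have h' : (FieldDim.fdelta p z).toNat = (FieldDim.fdelta q (g z)).toNat + e := by exact_mod_cast h
  have := FieldDim.fdelta_nonneg p z
  have := FieldDim.fdelta_nonneg q (g z)
  omega

/-- If `dim Z ≤ dim W`, only the generic point lies over the generic point. -/
theorem eq_genericPoint (hg : g ≫ q = p) [LocallyOfFiniteType p] [LocallyOfFiniteType q]
    [IrreducibleSpace Z] [IrreducibleSpace W] (hdim : topologicalKrullDim Z = topologicalKrullDim W)
    {z : Z} (hz : g z = genericPoint W) :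
    z = genericPoint Z ∧ Residue.trdegAt g z = 0 := by
  rw [topologicalKrullDim_eq_fdelta p, topologicalKrullDim_eq_fdelta q] at hdim
  have hd : (FieldDim.fdelta p (genericPoint Z)).toNat = (FieldDim.fdelta q (genericPoint W)).toNat := by
    exact_mod_cast hdim
  have h1 := FieldDim.fdelta_nonneg p (genericPoint Z)
  have h2 := FieldDim.fdelta_nonneg q (genericPoint W)
  obtain ⟨e, he, hze⟩ := fdelta_eq p q g hg z
  rw [hz] at hze
  have hz' : z = genericPoint Z := by
    by_contra hne
    have := DimFun.lt_of_specializes (FieldDim.isDimFun_fdelta p)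
      ((genericPoint_spec Z).specializes trivial : genericPoint Z ⤳ z) (Ne.symm hne)
    omega
  refine ⟨hz', ?_⟩
  subst hz'
  rw [he, show e = 0 by omega, Nat.cast_zero]

theorem preimage_subset (hg : g ≫ q = p) [LocallyOfFiniteType p] [LocallyOfFiniteType q]
    [IrreducibleSpace Z] [IrreducibleSpace W] (hdim : topologicalKrullDim Z = topologicalKrullDim W) :
    g ⁻¹' {genericPoint W} ⊆ {genericPoint Z} :=
  fun _ hz => (eq_genericPoint p q g hg hdim hz).1

end Groth.Agent.Lib.GenFinite.Basic
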