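import Groth.Agent.Lib.GenFinite.Basic
import Groth.Agent.H75.Birat.GenFinite
import Groth.Agent.H19.FlatLocus.Scheme
import Groth.Agent.Lib.FibreDeg.Basic
import Mathlib.AlgebraicGeometry.FunctionField
import Mathlib.AlgebraicGeometry.Morphisms.FlatRank
import Mathlib.RingTheory.Algebraic.Integral

/-!
# The degree of a generically finite morphism of varieties
-/

set_option backward.isDefEq.respectTransparency.types false
set_option linter.style.haveILetI false

universe u

open CategoryTheory CategoryTheory.Limits AlgebraicGeometry TopologicalSpace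
open scoped nonZeroDivisors

namespace Groth.Agent.Lib.GenFinite.Degree

variable {X Y : Scheme.{u}}

/-- The function field as residue field of the generic point. -/
theorem isFractionRing_evaluation [IsIntegral X] {U : X.Opens} (hU : IsAffineOpen U) {x : X}
    (hx : x = genericPoint X) (hxU : x ∈ U) :
    letI := (X.evaluation U x hxU).hom.toAlgebra
    IsFractionRing Γ(X, U) (X.residueField x) := by
  subst hx
  haveI : Nonempty U := ⟨⟨_, hxU⟩⟩
  have h : IsFractionRing Γ(X, U) X.functionField := functionField_isFractionRing_of_isAffineOpen X U hU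
  letI := (X.evaluation U (genericPoint X) hxU).hom.toAlgebra
  have hbij : Function.Bijective (X.residue (genericPoint X)).hom :=
    ⟨fun a b hab => by
      letI : Field (X.presheaf.stalk (genericPoint X)) := inferInstanceAs (Field X.functionField)
      exact RingHom.injective _ hab, X.residue_surjective _⟩
  exact IsLocalization.isLocalization_of_algEquiv Γ(X, U)⁰
    (S := X.functionField) (AlgEquiv.ofBijective
      ({ __ := (X.residue (genericPoint X)).hom, commutes' := fun _ => rfl } :
        X.functionField →ₐ[Γ(X, U)] X.residueField (genericPoint X)) hbij)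

/-- Over the spectrum of a domain the rank of a finite flat domain is its generic degree. -/
theorem finrank_SpecMap {A B : Type u} [CommRing A] [IsDomain A] [CommRing B] [IsDomain B]
    [Algebra A B] [Module.Finite A B] [Module.Flat A B] (K L : Type u) [Field K] [Field L]
    [Algebra A K] [IsFractionRing A K] [Algebra B L] [IsFractionRing B L] [Algebra A L] [Algebra K L]
    [IsScalarTower A B L] [IsScalarTower A K L] (x : PrimeSpectrum A) :
    Scheme.Hom.finrank (Spec.map (CommRingCat.ofHom (algebraMap A B))) x = Module.finrank K L := by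
  have hinj : Function.Injective (algebraMap A B) := fun a b h =>
    IsFractionRing.injective A K ((algebraMap K L).injective (by
      rw [← IsScalarTower.algebraMap_apply, ← IsScalarTower.algebraMap_apply,
        IsScalarTower.algebraMap_apply A B L, IsScalarTower.algebraMap_apply A B L, h]))
  have : FaithfulSMul A B := (faithfulSMul_iff_algebraMap_injective A B).mpr hinj
  let o : PrimeSpectrum A := ⟨⊥, Ideal.isPrime_bot⟩
  rw [Scheme.Hom.finrank_SpecMap_algebraMap,
    ← Module.rankAtStalk_eq_of_le_of_finite_of_flat B (show o ≤ x from (bot_le : (⊥ : Ideal A) ≤ x.asIdeal)),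
    IsFractionRing.finrank_eq A K B L, Module.rankAtStalk]
  have hle : o.asIdeal.primeCompl ≤ A⁰ := fun a ha => mem_nonZeroDivisors_of_ne_zero ha
  rw [IsLocalization.finrank_eq (Localization.AtPrime o.asIdeal) o.asIdeal.primeCompl hle,
    IsLocalizedModule.finrank_eq o.asIdeal.primeCompl
      (LocalizedModule.mkLinearMap o.asIdeal.primeCompl B) hle]

variable (k : Type u) [Field k] (p : X ⟶ Spec (CommRingCat.of k)) (q : Y ⟶ Spec (CommRingCat.of k))
  (f : X ⟶ Y)

theorem map_genericPoint [IrreducibleSpace X] [IrreducibleSpace Y] [IsDominant f] :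
    f (genericPoint X) = genericPoint Y := by
  refine ((genericPoint_spec X).image f.continuous).eq ?_
  rw [Set.image_univ, f.denseRange.closure_range]
  exact genericPoint_spec Y

/-- A dominant morphism of varieties of the same dimension is finite flat over a nonempty open. -/
theorem exists_isFinite_flat [IsIntegral X] [IsIntegral Y] [LocallyOfFiniteType p] [QuasiCompact p]
    [LocallyOfFiniteType q] [QuasiCompact q] [IsDominant f] (hf : f ≫ q = p)
    (hdim : topologicalKrullDim X = topologicalKrullDim Y) :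
    ∃ V : Y.Opens, genericPoint Y ∈ V ∧ IsFinite (f ∣_ V) ∧ Flat (f ∣_ V) := by
  have : LocallyOfFiniteType (f ≫ q) := hf ▸ inferInstance
  have : LocallyOfFiniteType f := locallyOfFiniteType_of_comp f q
  have : IsLocallyNoetherian Y := LocallyOfFiniteType.isLocallyNoetherian q
  have : IsLocallyNoetherian X := LocallyOfFiniteType.isLocallyNoetherian p
  have : QuasiSeparatedSpace Y := inferInstance
  have : CompactSpace X := QuasiCompact.compactSpace_of_compactSpace p
  have : IsNoetherian X := {}
  have : QuasiCompact f := inferInstance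
  have hξ := map_genericPoint f
  obtain ⟨V₀, hV₀, hfin⟩ := H75.Birat.exists_dense_isFinite_restrict f
    (NoetherianSpace.finite_irreducibleComponents (α := X)) (by
      have : CompactSpace Y := QuasiCompact.compactSpace_of_compactSpace q
      have : IsNoetherian Y := {}
      exact NoetherianSpace.finite_irreducibleComponents)
    (fun x => by
      rw [H75.Birat.isGen_iff_eq_genericPoint, H75.Birat.isGen_iff_eq_genericPoint]
      exact ⟨fun h => h ▸ hξ, fun h => (Basic.eq_genericPoint p q f hf hdim h).1⟩)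
  obtain ⟨y, hy⟩ := hV₀.nonempty
  have hηV₀ : genericPoint Y ∈ V₀ := ((genericPoint_spec Y).specializes trivial).mem_open V₀.isOpen hy
  let f₀ := f ∣_ V₀
  have : IsFinite f₀ := hfin
  let Z : Set (f ⁻¹ᵁ V₀ : Scheme) := {z | (f₀.stalkMap z).hom.Flat}ᶜ
  let W : (V₀ : Scheme).Opens := ⟨(f₀.base '' Z)ᶜ,
    (f₀.isClosedMap _ (H19.FlatLocus.Scheme.isOpen_flat_stalkMap f₀).isClosed_compl).isOpen_compl⟩
  have hηW : (⟨genericPoint Y, hηV₀⟩ : V₀) ∈ W := by
    rintro ⟨z, hz, hzη⟩
    refine hz (RingHom.Flat.of_isField ?_ _)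
    rw [hzη]
    exact (V₀.stalkIso ⟨genericPoint Y, hηV₀⟩).commRingCatIsoToRingEquiv.toMulEquiv.isField
      (Semifield.toIsField Y.functionField)
  refine ⟨V₀.ι ''ᵁ W, ⟨_, hηW, rfl⟩, ?_, ?_⟩
  · rw [← MorphismProperty.arrow_mk_iso_iff (@IsFinite : MorphismProperty Scheme.{u}) (morphismRestrictRestrict f V₀ W)]
    exact IsZariskiLocalAtTarget.restrict hfin W
  · rw [← MorphismProperty.arrow_mk_iso_iff (@Flat : MorphismProperty Scheme.{u}) (morphismRestrictRestrict f V₀ W), Flat.iff_flat_stalkMap]
    intro z
    have hflat : (f₀.stalkMap z.1).hom.Flat := by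
      by_contra hc
      exact z.2 ⟨z.1, hc, rfl⟩
    exact (RingHom.Flat.respectsIso.arrow_mk_iso_iff (morphismRestrictStalkMap f₀ W z)).mpr hflat

/-- Rank of a finite fibre. -/
theorem finrank_fibre {K : Type u} [Field K] {T : Scheme.{u}} (g : T ⟶ Spec (CommRingCat.of K)) [IsFinite g]
    (s : Spec (CommRingCat.of K)) :
    (letI := ((Scheme.ΓSpecIso (CommRingCat.of K)).inv ≫ g.appTop).hom.toAlgebra
     Module.finrank K Γ(T, ⊤)) = g.finrank s := by
  have hT : IsAffine T := isAffine_of_isAffineHom g
  let α : CommRingCat.of K ⟶ Γ(T, ⊤) := (Scheme.ΓSpecIso (CommRingCat.of K)).inv ≫ g.appTop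
  have key : g = T.isoSpec.hom ≫ Spec.map α := by
    rw [Spec.map_comp, ← Category.assoc, Scheme.isoSpec_hom_naturality g, Category.assoc]
    simp [Scheme.isoSpec_Spec_hom]
  letI := α.hom.toAlgebra
  have hfin : IsFinite (Spec.map α) := by
    rw [← MorphismProperty.cancel_left_of_respectsIso (@IsFinite : MorphismProperty Scheme.{u}) T.isoSpec.hom, ← key]
    infer_instance
  have := FibreDeg.Basic.flat_of_field (Spec.map α)
  have : Module.Finite K Γ(T, ⊤) := (IsFinite.SpecMap_iff α).1 hfin
  have hg : g.finrank s = (Spec.map (CommRingCat.ofHom (algebraMap K Γ(T, ⊤)))).finrank s := by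
    conv_lhs => rw [key]
    exact congrFun (Scheme.Hom.finrank_comp_left_of_isIso T.isoSpec.hom (Spec.map α)) s
  rw [hg]
  refine Eq.trans ?_ (Scheme.Hom.finrank_SpecMap_algebraMap K Γ(T, ⊤) s).symm
  exact (show ∀ x : PrimeSpectrum K, Module.rankAtStalk Γ(T, ⊤) x = Module.finrank K Γ(T, ⊤) from
    fun x => by rw [Module.rankAtStalk_eq_finrank_of_free, Pi.natCast_apply, Nat.cast_id]) s |>.symm

theorem residueFieldMap_finite [IrreducibleSpace X] [IrreducibleSpace Y] [LocallyOfFiniteType p]
    [LocallyOfFiniteType q] [IsDominant f] (hf : f ≫ q = p)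
    (hdim : topologicalKrullDim X = topologicalKrullDim Y) :
    (f.residueFieldMap (genericPoint X)).hom.Finite := by
  have : LocallyOfFiniteType (f ≫ q) := hf ▸ inferInstance
  have : LocallyOfFiniteType f := locallyOfFiniteType_of_comp f q
  exact Groth.Agent.Lib.Cyc.Residue.residueFieldMap_finite_of_trdeg_eq_zero _
    (Basic.eq_genericPoint p q f hf hdim (map_genericPoint f)).2

theorem exists_open_finrank_eq [IsIntegral X] [IsIntegral Y] [LocallyOfFiniteType p] [QuasiCompact p]
    [LocallyOfFiniteType q] [QuasiCompact q] [IsDominant f] (hf : f ≫ q = p)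
    (hdim : topologicalKrullDim X = topologicalKrullDim Y) :
    ∃ U : Y.Opens, Nonempty ↥U ∧ ∀ y : Y, y ∈ U →
      IsFinite (pullback.snd f (Y.fromSpecResidueField y)) ∧
        ∀ s, (pullback.snd f (Y.fromSpecResidueField y)).finrank s =
          (letI := (f.residueFieldMap (genericPoint X)).hom.toAlgebra
           Module.finrank (Y.residueField (f (genericPoint X))) (X.residueField (genericPoint X))) := by
  obtain ⟨V₀, hηV₀, hfin₀, hflat₀⟩ := exists_isFinite_flat k p q f hf hdim
  obtain ⟨_, ⟨V, hV, rfl⟩, hηV, hVV₀⟩ :=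
    Y.isBasis_affineOpens.exists_subset_of_mem_open (show genericPoint Y ∈ (V₀ : Set Y) from hηV₀) V₀.isOpen
  change Y.Opens at V
  have hV : IsAffineOpen V := hV
  have hres := fun (P : MorphismProperty Scheme.{u}) [IsZariskiLocalAtTarget P] (h : P (f ∣_ V₀)) =>
    show P (f ∣_ V) by
      have h1 := IsZariskiLocalAtTarget.restrict h (V₀.ι ⁻¹ᵁ V)
      rw [MorphismProperty.arrow_mk_iso_iff P (morphismRestrictRestrict f V₀ _)] at h1
      rwa [Scheme.Hom.image_preimage_eq_opensRange_inf, Scheme.Opens.opensRange_ι,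
        inf_eq_right.mpr (show V ≤ V₀ from hVV₀)] at h1
  have hfin : IsFinite (f ∣_ V) := hres @IsFinite hfin₀
  have hflat : Flat (f ∣_ V) := hres @Flat hflat₀
  let U := f ⁻¹ᵁ V
  have : IsAffine V := hV
  have hU : IsAffineOpen U := isAffine_of_isAffineHom (f ∣_ V)
  have hξ := map_genericPoint f
  have hξU : genericPoint X ∈ U := show f (genericPoint X) ∈ V from hξ ▸ hηV
  let φ := f.appLE V U le_rfl
  have hpb : IsPullback hU.fromSpec (Spec.map φ) f hV.fromSpec := by
    refine (IsOpenImmersion.isPullback (Spec.map φ) hU.fromSpec hV.fromSpec f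
      (IsAffineOpen.SpecMap_appLE_fromSpec f hV hU le_rfl).symm ?_).flip
    rw [hU.opensRange_fromSpec, hV.opensRange_fromSpec]
  have hpb' : IsPullback (U.ι) (f ∣_ V) f V.ι := (isPullback_morphismRestrict f V).flip
  let eU := hU.isoSpec
  have hsq : f ∣_ V = eU.hom ≫ Spec.map φ ≫ hV.isoSpec.inv := by
    rw [← cancel_mono V.ι, morphismRestrict_ι, Category.assoc, Category.assoc, hV.isoSpec_inv_ι,
      IsAffineOpen.SpecMap_appLE_fromSpec f hV hU le_rfl, ← IsAffineOpen.isoSpec_inv_ι hU,
      Category.assoc, Iso.hom_inv_id_assoc]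
  have hfinφ : IsFinite (Spec.map φ) := by
    rw [hsq, MorphismProperty.cancel_left_of_respectsIso (@IsFinite : MorphismProperty Scheme.{u}),
      MorphismProperty.cancel_right_of_respectsIso (@IsFinite : MorphismProperty Scheme.{u})] at hfin
    exact hfin
  have hflatφ : Flat (Spec.map φ) := by
    rw [hsq, MorphismProperty.cancel_left_of_respectsIso (@Flat : MorphismProperty Scheme.{u}),
      MorphismProperty.cancel_right_of_respectsIso (@Flat : MorphismProperty Scheme.{u})] at hflat
    exact hflat
  haveI : Nonempty V := ⟨⟨_, hηV⟩⟩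
  haveI : Nonempty U := ⟨⟨_, hξU⟩⟩
  letI : Algebra Γ(Y, V) Γ(X, U) := φ.hom.toAlgebra
  have : Module.Finite Γ(Y, V) Γ(X, U) := (IsFinite.SpecMap_iff φ).1 hfinφ
  have : Module.Flat Γ(Y, V) Γ(X, U) :=
    (HasRingHomProperty.Spec_iff (P := @Flat) (φ := φ)).1 hflatφ
  let K := Y.residueField (f (genericPoint X))
  let L := X.residueField (genericPoint X)
  letI : Algebra K L := (f.residueFieldMap (genericPoint X)).hom.toAlgebra
  have hηV' : f (genericPoint X) ∈ V := hξU
  letI : Algebra Γ(Y, V) K := (Y.evaluation V (f (genericPoint X)) hηV').hom.toAlgebra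
  have := isFractionRing_evaluation hV hξ hηV'
  letI : Algebra Γ(X, U) L := (X.evaluation U (genericPoint X) hξU).hom.toAlgebra
  have := isFractionRing_evaluation hU rfl hξU
  letI : Algebra Γ(Y, V) L := ((X.evaluation U (genericPoint X) hξU).hom.comp φ.hom).toAlgebra
  have : IsScalarTower Γ(Y, V) Γ(X, U) L := IsScalarTower.of_algebraMap_eq' rfl
  have : IsScalarTower Γ(Y, V) K L := IsScalarTower.of_algebraMap_eq' (by
    change (φ ≫ X.evaluation U (genericPoint X) hξU).hom =
      (Y.evaluation V (f (genericPoint X)) hηV' ≫ f.residueFieldMap (genericPoint X)).hom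
    congr 1
    rw [Scheme.evaluation_naturality]
    simp only [φ, U, Scheme.Hom.appLE_eq_app])
  refine ⟨V, ⟨⟨_, hηV⟩⟩, fun y hy => ?_⟩
  let ι := Spec.map (Y.evaluation V y hy)
  have hι : ι ≫ hV.fromSpec = Y.fromSpecResidueField y := by
    rw [Scheme.fromSpecResidueField, ← hV.fromSpecStalk_eq_fromSpecStalk hy, IsAffineOpen.fromSpecStalk,
      ← Spec.map_comp_assoc]
    rfl
  let a : pullback f (Y.fromSpecResidueField y) ⟶ Spec Γ(X, U) :=
    hpb.lift (pullback.fst _ _) (pullback.snd _ _ ≫ ι) (by rw [pullback.condition, Category.assoc, hι])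
  have hpb2 : IsPullback a (pullback.snd f (Y.fromSpecResidueField y)) (Spec.map φ) ι := by
    refine IsPullback.of_right ?_ (hpb.lift_snd _ _ _) hpb
    rw [hpb.lift_fst, hι]
    exact IsPullback.of_hasPullback f _
  have hfin' : IsFinite (pullback.snd f (Y.fromSpecResidueField y)) :=
    MorphismProperty.of_isPullback (P := @IsFinite) hpb2 hfinφ
  refine ⟨hfin', fun s => ?_⟩
  rw [Scheme.Hom.finrank_of_isPullback a _ (Spec.map φ) ι hpb2 s]
  exact finrank_SpecMap (A := Γ(Y, V)) (B := Γ(X, U)) K L _

end Groth.Agent.Lib.GenFinite.Degree
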